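import Mathlib
import Cfsg.Agent.Base
import Cfsg.Agent.Lib.H81.Regular
import Cfsg.Agent.Lib.Lang.Conj

/-! Orders of unipotent elements of Chevalley groups. -/

set_option autoImplicit false

namespace H61
open H38 H37 Cfsg Cfsg.Lie
open scoped commutatorElement

theorem pow_mem_filt {G : Type*} [Group G] {Γ : ℕ → Subgroup G} (hΓ : H81.IsFilt Γ) {N p : ℕ}
    (hN : Γ N = ⊥) (hp : p.Prime)
    (hgen : ∀ i, Γ i ≤ Subgroup.closure {x | x ∈ Γ i ∧ x ^ p = 1}) {i : ℕ} (hi : 1 ≤ i) {g : G}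
    (hg : g ∈ Γ i) : g ^ p ∈ Γ (p * i) := by
  induction h : N - i using Nat.strong_induction_on generalizing i g with
  | _ n ih =>
  by_cases hiN : N ≤ i
  · have : g = 1 := by simpa [hN] using hΓ.anti hiN hg
    simp [this]
  have hΓ' : H81.IsFilt fun k => Γ (i * k) :=
    ⟨fun a b h => hΓ.anti (Nat.mul_le_mul_left i h), fun a b => by rw [mul_add]; exact hΓ.comm _ _⟩
  suffices key : g ∈ Γ i ∧ g ^ p ∈ Γ (p * i) from key.2
  refine Subgroup.closure_induction (p := fun g _ => g ∈ Γ i ∧ g ^ p ∈ Γ (p * i))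
    (fun x hx => ⟨hx.1, by rw [hx.2]; exact one_mem _⟩) ⟨one_mem _, by simp⟩ (fun x y _ _ hx hy => ?_)
    (fun x _ hx => ⟨inv_mem hx.1, by rw [inv_pow]; exact inv_mem hx.2⟩) (hgen i hg)
  refine ⟨mul_mem hx.1 hy.1, ?_⟩
  have pw : ∀ {z : G}, z ∈ Γ i → H81.IsPoly (fun k => Γ (i * k)) 0 fun n => z ^ n := fun hz =>
    H81.isPoly_pow hΓ' (by simpa using hz)
  have := ((((pw hx.1).mul hΓ' (pw hy.1)).inv hΓ').mul hΓ' (pw (mul_mem hx.1 hy.1))).mem_of_vanish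
    hΓ' (n := p) (Γ (p * i)) 2 (fun k h2 hk c hc => ?_) (fun j hj => by interval_cases j <;> simp)
  · simpa [mul_assoc] using mul_mem (mul_mem hx.2 hy.2) this
  rw [zero_add] at hc
  rcases hk.eq_or_lt with rfl | hk
  · simpa [mul_comm] using hc
  · obtain ⟨m, hm⟩ := hp.dvd_choose_self (by omega) hk
    rw [hm, pow_mul]
    have h1 : i < i * k := by nlinarith
    exact pow_mem (hΓ.anti (Nat.mul_le_mul_left p h1.le)
      (ih (N - i * k) (by omega) (by omega) hc rfl)) m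

variable {ι l : Type} [Fintype l] [DecidableEq l]
variable {R : RS ι l} {K : Type*} [Field K] {G : Type*} [Group G] {E : Elts R K G}

theorem x_pow (r : ι) (t : K) (n : ℕ) : E.x r t ^ n = E.x r (n * t) := by
  induction n with
  | zero => simp [E.x_zero]
  | succ n ih => rw [pow_succ, ih, E.x_add]; congr 1; push_cast; ring

/-- The exponent of a unipotent subgroup in terms of a height function. -/
theorem pow_eq_one_of_height {p : ℕ} [hp : Fact p.Prime] [CharP K p] {S : Set ι}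
    (hS : ∀ r ∈ S, R.Pos r) {f : ι → ℕ} (h1 : ∀ r ∈ S, 1 ≤ f r)
    (hc : ∀ r ∈ S, ∀ s ∈ S, ∀ k ∈ R.Cone r s, k ∈ S ∧ f r + f s ≤ f k) {e : ℕ}
    (he : ∀ r ∈ S, f r < p ^ e) {g : G} (hg : g ∈ E.XS S) : g ^ p ^ e = 1 := by
  let Γ : ℕ → Subgroup G := fun i => E.XS {r | r ∈ S ∧ i ≤ f r}
  have hne : ∀ r ∈ S, ∀ s ∈ S, s ≠ R.neg r := fun r hr s hs e =>
    (R.pos_neg_iff r).1 (e ▸ hS s hs) (hS r hr)
  have hnorm : ∀ i, ∀ g ∈ E.XS S, g ∈ Subgroup.normalizer (Γ i : Set G) := fun i g hg => by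
    have : ∀ g ∈ E.XS S, ∀ a ∈ Γ i, g * a * g⁻¹ ∈ Γ i := fun g hg a ha =>
      E.XS_conj_mem (S := {r | r ∈ S ∧ i ≤ f r}) (fun r hr s hs => ⟨hne r hr s hs.1, fun k hk =>
        ⟨(hc r hr s hs.1 k hk).1, by have := (hc r hr s hs.1 k hk).2; have := hs.2; omega⟩⟩) hg ha
    exact Subgroup.mem_normalizer_iff.2 fun a => ⟨this g hg a, fun h => by
      simpa [mul_assoc] using this _ (inv_mem hg) _ h⟩
  have hΓ : H81.IsFilt Γ := ⟨fun a b h => E.XS_mono fun r hr => ⟨hr.1, h.trans hr.2⟩, fun i j => by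
    simp only [Γ, E.XS_eq_closure {r | r ∈ S ∧ i ≤ f r}, E.XS_eq_closure {r | r ∈ S ∧ j ≤ f r}]
    refine H81.commutator_closure_closure_le ?_ ?_ ?_
    · rintro _ ⟨r, hr, t, rfl⟩; exact hnorm _ _ (E.x_mem_XS hr.1 t)
    · rintro _ ⟨r, hr, t, rfl⟩; exact hnorm _ _ (E.x_mem_XS hr.1 t)
    · rintro _ ⟨r, hr, t, rfl⟩ _ ⟨s, hs, u, rfl⟩
      exact E.mem_XS_mono (E.comm_of_ne_neg (hne r hr.1 s hs.1) t u) fun k hk =>
        ⟨(hc r hr.1 s hs.1 k hk).1, (add_le_add hr.2 hs.2).trans (hc r hr.1 s hs.1 k hk).2⟩⟩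
  have hN : Γ (p ^ e) = ⊥ := by
    rw [← E.XS_empty]
    exact congrArg E.XS (Set.eq_empty_of_forall_notMem fun r hr => (he r hr.1).not_ge hr.2)
  have key : ∀ n, g ^ p ^ n ∈ Γ (p ^ n) := fun n => by
    induction n with
    | zero => simpa using E.mem_XS_mono (T := {r | r ∈ S ∧ 1 ≤ f r}) hg fun r hr => ⟨hr, h1 r hr⟩
    | succ n ih =>
      rw [pow_succ, pow_mul, mul_comm]
      refine pow_mem_filt hΓ hN hp.out (fun i => E.XS_le.2 fun r hr t => ?_)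
        (Nat.one_le_pow _ _ hp.out.pos) ih
      exact Subgroup.subset_closure ⟨E.x_mem_XS hr t, by simp [x_pow, E.x_zero]⟩
  simpa [hN] using key e

theorem not_dvd_card_H [Finite K] (h3 : E.R3) (p : ℕ) [hp : Fact p.Prime] [CharP K p] :
    ¬ p ∣ Nat.card E.H := by
  cases nonempty_fintype K
  obtain ⟨n, -, hn⟩ := FiniteField.card K p
  rw [← Elts.tor_range h3]
  intro h
  have := h.trans (Subgroup.card_range_dvd _)
  rw [Nat.card_fun, Nat.card_units, Nat.card_eq_fintype_card, hn] at this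
  have h1 := hp.out.dvd_of_dvd_pow this
  exact hp.out.one_lt.ne' (Nat.dvd_one.1 ((Nat.dvd_sub_iff_right (Nat.one_le_pow _ _ hp.out.pos)
    (dvd_pow_self p n.ne_zero)).1 h1))

/-- A `p`-element of a subsystem subgroup is conjugate into its unipotent subgroup. -/
theorem exists_conj_XS [Finite ι] [Finite K] [Finite G] (hF : E.Faith) (h3 : E.R3) {p : ℕ}
    [hp : Fact p.Prime] [CharP K p] {Ψ : Set ι} (hΨ : IsSub R Ψ) {g : G} (hg : g ∈ E.BS Ψ) {e : ℕ}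
    (he : g ^ p ^ e = 1) : ∃ z ∈ E.BS Ψ, z * g * z⁻¹ ∈ E.XS {r | r ∈ Ψ ∧ R.Pos r} := by
  cases nonempty_fintype K
  obtain ⟨n, -, hn⟩ := FiniteField.card K p
  obtain ⟨m, b, h⟩ := hΨ.exists_base
  have hle : E.XS {r | r ∈ Ψ ∧ R.Pos r} ≤ E.BS Ψ := (E.XS_mono fun r hr => hr.1).trans le_sup_left
  let P := (E.XS {r | r ∈ Ψ ∧ R.Pos r}).subgroupOf (E.BS Ψ)
  have hP : Nat.card P = Nat.card K ^ {r | r ∈ Ψ ∧ R.Pos r}.ncard := by
    rw [Nat.card_congr (Subgroup.subgroupOfEquivOfLe hle).toEquiv,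
      hF.card_XS h.closed_pos fun r hr => hr.2]
  have hi := P.card_mul_index
  rw [h.card_BS hF, hP, mul_assoc, Nat.mul_right_inj (pow_pos Nat.card_pos _).ne'] at hi
  have hq : p ∣ Nat.card K := by rw [Nat.card_eq_fintype_card, hn]; exact dvd_pow_self p n.ne_zero
  have hi' : ¬ p ∣ P.index := by
    rw [hi, hp.out.dvd_mul, not_or]
    refine ⟨not_dvd_card_H h3 p, ?_⟩
    have := Fintype.ofFinite h.rs.W
    classical
    rw [finsum_eq_sum_of_fintype, ← Finset.add_sum_erase _ _ (Finset.mem_univ 1),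
      Nat.dvd_add_left (Finset.dvd_sum fun w hw => dvd_pow hq fun h0 =>
        (Finset.mem_erase.1 hw).1 (Subtype.ext ((h.rs.ln_eq_zero_iff w.2).1 h0)))]
    simpa [h.rs.ln_one] using hp.out.one_lt.ne'
  have hPp : IsPGroup p P := IsPGroup.of_card (by rw [hP, Nat.card_eq_fintype_card, hn, ← pow_mul])
  have hg' : IsPGroup p (Subgroup.zpowers (⟨g, hg⟩ : E.BS Ψ)) := by
    obtain ⟨j, -, hj⟩ := (Nat.dvd_prime_pow hp.out).1 (orderOf_dvd_of_pow_eq_one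
      (x := (⟨g, hg⟩ : E.BS Ψ)) (Subtype.ext he))
    exact IsPGroup.of_card (by rw [Nat.card_zpowers, hj])
  obtain ⟨Q, hQ⟩ := hg'.exists_le_sylow
  obtain ⟨z, hz⟩ := MulAction.exists_smul_eq (E.BS Ψ) Q (hPp.toSylow hi')
  have : z * ⟨g, hg⟩ * z⁻¹ ∈ (z • Q : Sylow p (E.BS Ψ)) :=
    Subgroup.smul_mem_pointwise_smul _ (MulAut.conj z) _ (hQ (Subgroup.mem_zpowers _))
  rw [hz] at this
  exact ⟨z, z.2, this⟩

end H61
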