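import Mathlib
import Cfsg.Agent.Base
import Cfsg.Agent.Lib.LieSpec.Unip
import Cfsg.Agent.Lib.Chev.Center
import Cfsg.Agent.Lib.Chev.Lift

/-! Orders of elements of Chevalley groups in terms of twisted tori. -/

set_option autoImplicit false

namespace H61
open H38 H37 Cfsg Cfsg.Lie Matrix

universe u

section Abstract
variable {ι : Type} {n : ℕ} (R : RS ι (Fin n)) {Γ : Type*} [CommGroup Γ]

/-- The matrix of a permutation of the roots on the coroot lattice. -/
def cmat (w : Equiv.Perm ι) : Matrix (Fin n) (Fin n) ℤ := Matrix.of fun j => R.cor (w (R.sim j))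

theorem cmat_one : cmat R 1 = 1 := by
  ext j i; simp [cmat, R.cor_sim, Pi.single_apply, Matrix.one_apply, eq_comm]

theorem cmat_refl (r : ι) : cmat R (R.refl r) = 1 - vecMulVec (R.wt r) (R.cor r) := by
  ext j i
  simp [cmat, R.cor_refl, R.cor_sim, R.pair_sim_left, Pi.single_apply, Matrix.one_apply, eq_comm,
    vecMulVec_apply]

theorem cor_refl_eq (r s : ι) : R.cor (R.refl r s) = R.cor s ᵥ* cmat R (R.refl r) := by
  rw [cmat_refl, vecMul_sub, vecMul_one, vecMul_vecMulVec, R.cor_refl, R.pair_eq_sum]; rfl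

variable {R}

theorem cor_W {w : Equiv.Perm ι} (hw : w ∈ R.W) (r : ι) : R.cor (w r) = R.cor r ᵥ* cmat R w := by
  refine R.W_induction_left (P := fun w _ => R.cor (w r) = R.cor r ᵥ* cmat R w)
    (by simp [cmat_one]) (fun i w _ ih => ?_) hw
  have : cmat R (R.s i * w) = cmat R w * cmat R (R.s i) := by
    ext j k; exact congrFun (cor_refl_eq R (R.sim i) (w (R.sim j))) k
  rw [this, ← vecMul_vecMul, ← ih]
  exact cor_refl_eq R _ _

theorem cmat_mul {w : Equiv.Perm ι} (hw : w ∈ R.W) (w' : Equiv.Perm ι) :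
    cmat R (w * w') = cmat R w' * cmat R w := by
  ext j k; exact congrFun (cor_W hw (w' (R.sim j))) k

theorem det_cmat_refl (r : ι) : (cmat R (R.refl r)).det = -1 := by
  rw [cmat_refl, sub_eq_add_neg, ← neg_vecMulVec, vecMulVec_eq Unit,
    det_one_add_replicateCol_mul_replicateRow, dotProduct_neg]
  have := R.pair_self r
  rw [R.pair_eq_sum] at this
  simp only [dotProduct]; omega

theorem mact_vecMulVec (a b : Fin n → ℤ) (c : Fin n → Γ) (j : Fin n) :
    mact (vecMulVec a b) c j = (∏ i, c i ^ a i) ^ b j := by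
  simp [mact_apply, vecMulVec_apply, _root_.zpow_mul, Finset.prod_zpow]

theorem mact_neg {a b : ℕ} (M : Matrix (Fin a) (Fin b) ℤ) (c : Fin a → Γ) :
    mact (-M) c = (mact M c)⁻¹ := by
  funext j; simp [mact_apply]

theorem mact_sub {a b : ℕ} (M N : Matrix (Fin a) (Fin b) ℤ) (c : Fin a → Γ) :
    mact (M - N) c = mact M c / mact N c := by
  rw [sub_eq_add_neg, mact_add, mact_neg, div_eq_mul_inv]

theorem mact_zsmul {a b : ℕ} (d : ℤ) (M : Matrix (Fin a) (Fin b) ℤ) (c : Fin a → Γ) :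
    mact (d • M) c = mact M c ^ d := by
  funext j; simp [mact_apply, mul_comm d, _root_.zpow_mul, Finset.prod_zpow]

theorem mact_refl {r : ι} {c : Fin n → Γ} (h : chi R r c = 1) : mact (cmat R (R.refl r)) c = c := by
  rw [cmat_refl, mact_sub, mact_one]
  funext j
  rw [Pi.div_apply, mact_vecMulVec, ← chi_apply, h, _root_.one_zpow, div_one]

theorem chi_W {w : Equiv.Perm ι} (hw : w ∈ R.W) (r : ι) (c : Fin n → Γ) :
    chi R (w r) (mact (cmat R w) c) = chi R r c := by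
  simp only [chi_apply, mact_apply, ← Finset.prod_zpow, ← _root_.zpow_mul]
  rw [Finset.prod_comm]
  refine Finset.prod_congr rfl fun j _ => ?_
  rw [← R.pair_sim_left, ← R.pair_W hw, R.pair_eq_sum]
  exact (map_prod (zpowersHom Γ (c j)) (fun i => Multiplicative.ofAdd
    (R.cor (w (R.sim j)) i * R.wt (w r) i)) _).symm

theorem pow_det_eq_one {M : Matrix (Fin n) (Fin n) ℤ} {c : Fin n → Γ} (h : mact M c = 1) :
    c ^ M.det = 1 := by
  rw [← mact_one c, ← mact_zsmul, ← mul_adjugate, ← mact_mact, h, map_one]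

variable (R) in
/-- The matrix of a permutation of the roots on the root lattice. -/
def rmat (w : Equiv.Perm ι) : Matrix (Fin n) (Fin n) ℤ := Matrix.of fun i j => R.rt (w (R.sim j)) i

theorem rmat_mulVec {w : Equiv.Perm ι} (hw : w ∈ R.W) (r : ι) : rmat R w *ᵥ R.rt r = R.rt (w r) := by
  funext i; simp [R.rt_W hw r, R.lin_apply, rmat, mulVec, dotProduct, mul_comm]

theorem rmat_mul {w : Equiv.Perm ι} (hw : w ∈ R.W) (w' : Equiv.Perm ι) :
    rmat R (w * w') = rmat R w * rmat R w' := by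
  ext i j; exact (congrFun (rmat_mulVec hw (w' (R.sim j))) i).symm

theorem det_rmat_refl (r : ι) : (rmat R (R.refl r)).det = -1 := by
  have : rmat R (R.refl r) = 1 + vecMulVec (-R.rt r) fun j => R.pair r (R.sim j) := by
    ext i j
    simp [rmat, R.rt_refl, R.rt_sim, Pi.single_apply, Matrix.one_apply, vecMulVec_apply, mul_comm,
      sub_eq_add_neg]
  rw [this, vecMulVec_eq Unit, det_one_add_replicateCol_mul_replicateRow, dotProduct_neg]
  have h := R.pair_self r
  rw [RS.pair, ← R.sum_smul_rt_sim (R.rt r), pv_sum] at h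
  simp only [dotProduct, RS.pair, mul_comm (R.pv _ _)]; omega

theorem form_W {w : Equiv.Perm ι} (hw : w ∈ R.W) (r s : ι) :
    R.form (R.rt (w r)) (R.rt (w s)) = R.form (R.rt r) (R.rt s) := by
  rw [R.form_rt, R.form_rt, R.len_W hw, ← RS.pair, ← RS.pair, R.pair_W hw]

theorem chi_eq_prod (r : ι) (c : Fin n → Γ) :
    chi R r c = ∏ j, chi R (R.sim j) c ^ R.rt r j := by
  simp only [chi_apply, ← Finset.prod_zpow, ← _root_.zpow_mul, R.wt_sim]
  rw [Finset.prod_comm]
  refine Finset.prod_congr rfl fun i _ => ?_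
  have : R.wt r i = ∑ j, R.A i j * R.rt r j := by simp [RS.wt, RS.wtv, mul_comm]
  rw [this]
  exact map_prod (zpowersHom Γ (c i)) (fun j => Multiplicative.ofAdd (R.A i j * R.rt r j))
    Finset.univ

theorem chi_pow_W {w : Equiv.Perm ι} (hw : w ∈ R.W) {c : Fin n → Γ} {q : ℕ}
    (h : mact (cmat R w) c = c ^ q) (r : ι) : chi R (w r) c ^ q = chi R r c := by
  rw [← map_pow, ← h, chi_W hw]

theorem mact_rmat {w : Equiv.Perm ι} (hw : w ∈ R.W) {c : Fin n → Γ} {q : ℕ}
    (h : mact (cmat R w) c = c ^ q) :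
    mact (rmat R w) (fun j => chi R (R.sim j) c) ^ q = fun j => chi R (R.sim j) c := by
  funext j
  rw [← chi_pow_W hw h (R.sim j), chi_eq_prod (w _)]; rfl

theorem mact_zpow (M : Matrix (Fin n) (Fin n) ℤ) (ζ : Γ) (v : Fin n → ℤ) :
    mact M (fun i => ζ ^ v i) = fun j => ζ ^ (v ᵥ* M) j := by
  funext j
  simp only [mact_apply, ← _root_.zpow_mul]
  exact (map_prod (zpowersHom Γ ζ) (fun i => Multiplicative.ofAdd (v i * M i j)) _).symm

theorem mact_zpow_eq {M : Matrix (Fin n) (Fin n) ℤ} {ζ : Γ} {v : Fin n → ℤ} {q : ℕ}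
    (h : ∀ j, (orderOf ζ : ℤ) ∣ q * (v ᵥ* M) j - v j) :
    mact M ((fun i => ζ ^ v i) ^ q) = fun i => ζ ^ v i := by
  rw [map_pow, mact_zpow]
  funext j
  rw [Pi.pow_apply, ← zpow_natCast, ← _root_.zpow_mul, zpow_eq_zpow_iff_modEq, mul_comm]
  exact (Int.modEq_iff_dvd.2 (h j)).symm

theorem exists_unit_orderOf (k : Type*) [Field k] [IsAlgClosed k] (p : ℕ) [CharP k p] {m : ℕ}
    (h : ¬ p ∣ m) : ∃ ζ : kˣ, orderOf ζ = m := by
  have : NeZero (m : k) := ⟨by rwa [Ne, CharP.cast_eq_zero_iff k p]⟩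
  obtain ⟨ζ, hζ⟩ := HasEnoughRootsOfUnity.exists_primitiveRoot k m
  have hm : m ≠ 0 := by rintro rfl; simp at h
  exact ⟨(hζ.isUnit hm).unit, (hζ.isUnit_unit hm).eq_orderOf.symm⟩

theorem exists_twisted (k : Type*) [Field k] [IsAlgClosed k] (p : ℕ) [CharP k p] {m q : ℕ}
    (hm : ¬ p ∣ m) {M : Matrix (Fin n) (Fin n) ℤ} {v : Fin n → ℤ} {i : Fin n} (hi : v i = 1)
    (h : ∀ j, (m : ℤ) ∣ q * (v ᵥ* M) j - v j) :
    ∃ c : Fin n → kˣ, orderOf c = m ∧ mact M (c ^ q) = c ∧ ∀ j, v j = 0 → c j = 1 := by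
  obtain ⟨ζ, rfl⟩ := exists_unit_orderOf k p hm
  refine ⟨_, orderOf_eq_orderOf_iff.2 fun a => ⟨fun e => ?_, fun e => ?_⟩, mact_zpow_eq h,
    fun j hj => by simp [hj]⟩
  · simpa [hi] using congrFun e i
  · funext j
    rw [Pi.pow_apply, ← zpow_natCast, ← _root_.zpow_mul, mul_comm, _root_.zpow_mul, zpow_natCast, e,
      _root_.one_zpow]; rfl

theorem exists_twisted_prime (k : Type*) [Field k] [IsAlgClosed k] (p : ℕ) [hp : Fact p.Prime]
    [CharP k p] {r q : ℕ} (hr : r.Prime) (hrp : r ≠ p) {M : Matrix (Fin n) (Fin n) ℤ}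
    (h : (r : ℤ) ∣ ((q : ℤ) • M - 1).det) : ∃ c : Fin n → kˣ, orderOf c = r ∧ mact M (c ^ q) = c := by
  have := Fact.mk hr
  obtain ⟨ζ, rfl⟩ := exists_unit_orderOf k p (m := r) (by
    rw [Nat.prime_dvd_prime_iff_eq hp.out hr]; exact hrp.symm)
  obtain ⟨v, hv, e⟩ := (exists_vecMul_eq_zero_iff (M := (Int.castRingHom (ZMod (orderOf ζ))).mapMatrix
    ((q : ℤ) • M - 1))).2 (by rw [← RingHom.map_det]; exact (ZMod.intCast_zmod_eq_zero_iff_dvd _ _).2 h)
  choose v' hv' using fun i => ZMod.intCast_surjective (v i)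
  refine ⟨fun i => ζ ^ v' i, orderOf_eq_prime ?_ fun e => hv (funext fun i => ?_),
    mact_zpow_eq fun j => ?_⟩
  · funext j
    rw [Pi.pow_apply, ← zpow_natCast, ← _root_.zpow_mul, mul_comm, _root_.zpow_mul, zpow_natCast,
      pow_orderOf_eq_one, _root_.one_zpow]; rfl
  · rw [← hv', Pi.zero_apply, ZMod.intCast_zmod_eq_zero_iff_dvd, orderOf_dvd_iff_zpow_eq_one]
    exact congrFun e i
  · rw [← ZMod.intCast_zmod_eq_zero_iff_dvd, ← Pi.zero_apply (M := fun _ => ZMod (orderOf ζ)) j, ← e]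
    simp only [vecMul, dotProduct, ← hv', RingHom.mapMatrix_apply, Matrix.map_apply,
      Matrix.sub_apply, Matrix.smul_apply, smul_eq_mul]
    simp [mul_sub, Finset.sum_sub_distrib, Finset.mul_sum, Matrix.one_apply, mul_left_comm]

theorem not_dvd_orderOf {k : Type*} [Field k] (p : ℕ) [hp : Fact p.Prime] [CharP k p]
    {c : Fin n → kˣ} (hc : orderOf c ≠ 0) : ¬ p ∣ orderOf c := by
  rintro ⟨m, hm⟩
  have h : c ^ m = 1 := funext fun i => Units.ext (frobenius_inj k p (by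
    rw [Pi.one_apply, Units.val_one, map_one, frobenius_def, ← Units.val_pow_eq_pow_val, ← Pi.pow_apply, ← pow_mul, mul_comm,
      ← hm, pow_orderOf_eq_one]; rfl))
  have hm0 : 0 < m := Nat.pos_of_ne_zero (by rintro rfl; simp_all)
  have := Nat.le_of_dvd hm0 (orderOf_dvd_of_pow_eq_one h)
  have := hp.out.two_le
  nlinarith

variable {K : Type*} [Field K] {G : Type*} [Group G] {E : Elts R K G}

theorem conj_tor (h3 : E.R3) {m : G} {w : Equiv.Perm ι} (h : E.Rep m w) (c : Fin n → Kˣ) :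
    m * Elts.tor h3 c * m⁻¹ = Elts.tor h3 (mact (cmat R w) c) := by
  have : (MulAut.conj m).toMonoidHom.comp (Elts.tor h3) = (Elts.tor h3).comp (mact (cmat R w)) :=
    MonoidHom.pi_ext fun j t => by
      simp only [MonoidHom.comp_apply, Elts.tor_single, MulEquiv.coe_toMonoidHom, MulAut.conj_apply]
      rw [h.conj_h_R3 h3 _ t.ne_zero, Elts.h_eq_tor h3]
      congr 1
      funext i
      rw [mact_apply, Finset.prod_eq_single j (fun k _ hk => by simp [Pi.mulSingle_eq_of_ne hk])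
        (by simp)]
      simp [cmat]
  exact DFunLike.congr_fun this c

end Abstract

variable {D : ChevalleyDatum} (hD : D ∈ Tabs) (R : RootSys D) (hm : Smith (cartanMat D) 1 0)
include hm

theorem tor_injective (K : Type*) [Field K] : Function.Injective (Elts.tor (EG_R3 hD R K)) := by
  refine (injective_iff_map_eq_one _).2 fun c hc => ?_
  have h1 := Elts.map_tor (isMat hD R K).grp_isHom (EG_R3 hD R K) (isMat hD R K).R3 c
  have : c ∈ (Elts.tor (isMat hD R K).R3).ker := h1.symm.trans (congrArg Subtype.val hc)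
  rwa [(isMat hD R K).tor_ker, hm.ker_eq_bot] at this

theorem eq_one_of_chi {Γ : Type*} [CommGroup Γ] {c : Fin D.rank → Γ}
    (h : ∀ j, chi R.toRS (R.sim j) c = 1) : c = 1 := by
  have : c ∈ (mact (cartanMat D)).ker := funext fun j => by
    simpa [chi_apply, mact_apply, R.wt_sim, R.A_eq] using h j
  rwa [hm.ker_eq_bot] at this

theorem orderOf_chi {Γ : Type*} [CommGroup Γ] (c : Fin D.rank → Γ) :
    orderOf (fun j => chi R.toRS (R.sim j) c) = orderOf c :=
  orderOf_eq_orderOf_iff.2 fun m => ⟨fun e => eq_one_of_chi R hm fun j => by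
    rw [map_pow]; exact congrFun e j, fun e => funext fun j => by
      rw [Pi.pow_apply, ← map_pow, e, map_one]; rfl⟩

variable {p : ℕ} [hp : Fact p.Prime]

theorem exists_conj_XS_closed {k : Type u} [Field k] [IsAlgClosed k] [CharP k p] (hk : LocFin k p)
    {Ψ : Set (Fin D.nroots)} (hΨ : IsSub R.toRS Ψ) {g : D.group k} (hg : g ∈ (EG hD R k).BS Ψ)
    {e : ℕ} (he : g ^ p ^ e = 1) :
    ∃ z ∈ (EG hD R k).BS Ψ, z * g * z⁻¹ ∈ (EG hD R k).XS {r | r ∈ Ψ ∧ R.Pos r} := by
  obtain ⟨a, ha, h⟩ := hk.exists_fix hD g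
  obtain ⟨f, hf⟩ := exists_subfield (p := p) k ha
  obtain ⟨g0, h0, rfl⟩ := fix_BS_of_inj (fm_fhom hD R f) (fr_fhom hD R k a) hf (EG_faith hD R k)
    (EG_R3 hD R k) (EG_R3 hD R _) (tor_injective hD R hm k) hΨ hg h
  obtain ⟨z, hz, h1⟩ := exists_conj_XS (EG_faith hD R _) (EG_R3 hD R _) hΨ h0 (e := e)
    (fm_injective hD f (by rw [map_pow, he, map_one]))
  exact ⟨_, (fm_fhom hD R f).mem_BS hz, by simpa using (fm_fhom hD R f).mem_XS h1⟩

variable {F : Type*} [Field F] [Fintype F] {k : Type u} [Field k] [CharP k p] [Algebra F k]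
  {a : ℕ} (hF : Fintype.card F = p ^ a)
include hF

omit hm in
theorem frob_fix (t : k) : iterateFrobenius k p a t = t ↔ t ∈ (algebraMap F k).range := by
  rw [← mem_range_iff_pow_card, hF, iterateFrobenius_def]

omit hm hF in
theorem fr_tor (c : Fin D.rank → kˣ) :
    fr hD _ p a (Elts.tor (EG_R3 hD R _) c) = Elts.tor (EG_R3 hD R _) (c ^ p ^ a) := by
  rw [(fr_fhom hD R _ a).tor (EG_R3 hD R _) (EG_R3 hD R _)]
  rfl

variable [IsAlgClosed k]

variable (k) in
/-- The semisimple and unipotent parts of an element. -/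
theorem exists_data [Algebra.IsAlgebraic F k] (g : D.group F) : ∃ (c : Fin D.rank → kˣ), ∃ w ∈ R.W,
    ∃ u ∈ (EG hD R k).XS {r | chi R.toRS r c = 1 ∧ R.Pos r}, ∃ e,
      mact (cmat R.toRS w) c = c ^ p ^ a ∧ orderOf u = p ^ e ∧ orderOf g = orderOf c * p ^ e ∧
      ¬ p ∣ orderOf c := by
  have hk := locFin_of_algebraic (p := p) F k
  obtain ⟨e, m, hpm, hg⟩ := Nat.exists_eq_pow_mul_and_not_dvd (orderOf_pos g).ne' p hp.out.ne_one
  let φ := fm hD (algebraMap F k)
  have hm0 : m ≠ 0 := by rintro rfl; simp at hpm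
  have h1 : orderOf (φ (g ^ p ^ e)) = m := by
    rw [orderOf_injective φ (fm_injective hD _), orderOf_pow_of_dvd (pow_pos hp.out.pos e).ne'
      (hg ▸ dvd_mul_right _ _), hg, Nat.mul_div_cancel_left _ (pow_pos hp.out.pos e)]
  have h2 : orderOf (φ (g ^ m)) = p ^ e := by
    rw [orderOf_injective φ (fm_injective hD _), orderOf_pow_of_dvd hm0
      (hg ▸ dvd_mul_left _ _), hg, Nat.mul_div_cancel _ (Nat.pos_of_ne_zero hm0)]
  have hc := (Nat.Prime.coprime_iff_not_dvd hp.out).2 hpm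
  obtain ⟨z, -, ht, hu⟩ := exists_conj_H (hD := hD) (R := R) hk isSub_univ (s := φ (g ^ p ^ e))
    (u := φ (g ^ m)) (by simp [EG_BS_univ]) (by simp [EG_BS_univ])
    ((Commute.pow_pow_self g _ _).map φ) (h1 ▸ hc) (by rw [h1, h2]; exact (hc.pow_left e).symm)
  obtain ⟨c, hc⟩ := exists_tor (EG_R3 hD R k) ht
  have hfix : fr hD k p a (φ (g ^ p ^ e)) = φ (g ^ p ^ e) :=
    fix_of_mem_Gp (fm_fhom hD R _) (fr_fhom hD R k a) (frob_fix hF) (by simp [EG_top])
  obtain ⟨n, hn, h3⟩ := (EG_faith hD R k).conj_in_N ht (tor_mem (EG_R3 hD R k) (c ^ p ^ a))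
    (g := (fr hD k p a z)⁻¹ * z) (by simp [EG_top]) (by
      rw [← fr_tor, hc, map_mul, map_mul, map_inv, hfix]; group)
  obtain ⟨w, hw⟩ := (EG hD R k).exists_rep_of_mem_N hn
  rw [← hc, conj_tor _ hw] at h3
  have ho : ∀ x : D.group k, orderOf (z⁻¹ * x * z) = orderOf x := fun x => by
    simpa using MulEquiv.orderOf_eq (MulAut.conj z⁻¹) x
  rw [← hc, Set.univ_inter] at hu
  obtain ⟨y, -, hy⟩ := exists_conj_XS_closed hD R hm hk (isSub_Ker (EG_faith hD R k) (EG_R3 hD R k)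
    (by simpa using tor_mem _ c)) hu (e := e) (by rw [← h2, ← ho, pow_orderOf_eq_one])
  have h4 : orderOf c = m := by
    rw [← orderOf_injective _ (tor_injective hD R hm k), hc, ho, h1]
  refine ⟨c, w, hw.mem_W, _, (EG hD R k).mem_XS_mono hy fun r hr =>
    ⟨(mem_Ker_tor (EG_faith hD R k) _).1 hr.1, hr.2⟩, e, tor_injective hD R hm k h3, ?_, ?_, h4 ▸ hpm⟩
  · rw [← h2, ← ho (φ (g ^ m)), ← MulAut.conj_apply, MulEquiv.orderOf_eq]
  · rw [h4, hg, mul_comm]

include R in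
/-- Elements fixed by a twisted Frobenius map give element orders of the finite group. -/
theorem exists_orderOf (ha : 0 < a) {n x : D.group k}
    (h : n * fr hD _ p a x * n⁻¹ = x) : ∃ g : D.group F, orderOf g = orderOf x := by
  obtain ⟨z, -, hz⟩ := (fGood_fr hD R ha).lang (isFr_fr hD R _ a) isSub_univ
    (EG hD R k).rep_one (fun _ _ => trivial) (g := n) (by simp [EG_BS_univ])
  obtain ⟨g, -, hg⟩ := fix_BS_of_inj (fm_fhom hD R _) (fr_fhom hD R _ a) (frob_fix hF)
    (EG_faith hD R _) (EG_R3 hD R _) (EG_R3 hD R _) (tor_injective hD R hm _) isSub_univ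
    (g := z⁻¹ * x * z) (by simp [EG_BS_univ]) (by
      nth_rw 2 [← h]
      rw [hz, map_mul, map_mul, map_inv]; group)
  refine ⟨g, ?_⟩
  rw [← orderOf_injective _ (fm_injective hD (algebraMap F k)), hg]
  simpa using MulEquiv.orderOf_eq (MulAut.conj z⁻¹) x

include hD in
theorem exists_orderOf_tor (ha : 0 < a) {w : Equiv.Perm (Fin D.nroots)} (hw : w ∈ R.W)
    {c : Fin D.rank → kˣ} (h : mact (cmat R.toRS w) (c ^ p ^ a) = c) :
    ∃ g : D.group F, orderOf g = orderOf c := by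
  obtain ⟨n, hn⟩ := (EG hD R k).exists_rep_of_mem_W hw
  rw [← orderOf_injective _ (tor_injective hD R hm k)]
  exact exists_orderOf hD R hm hF ha (n := n) (by rw [fr_tor, conj_tor _ hn, h])

include hD in
theorem exists_orderOf_tor_mul (ha : 0 < a) {w : Equiv.Perm (Fin D.nroots)} (hw : w ∈ R.W)
    {c : Fin D.rank → kˣ} (h : mact (cmat R.toRS w) (c ^ p ^ a) = c) (h0 : orderOf c ≠ 0)
    {r : Fin D.nroots} (hr : w r = r) (hc : chi R.toRS r c = 1) :
    ∃ g : D.group F, orderOf g = orderOf c * p := by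
  obtain ⟨n, hn⟩ := (EG hD R k).exists_rep_of_mem_W hw
  obtain ⟨γ, hγ, e⟩ := hn.conj_x r
  have hq := Nat.one_lt_pow ha.ne' hp.out.one_lt
  obtain ⟨t, ht⟩ := IsAlgClosed.exists_pow_nat_eq γ⁻¹ (n := p ^ a - 1) (by omega)
  have ht0 : t ≠ 0 := by rintro rfl; rw [zero_pow (by omega)] at ht; exact inv_ne_zero hγ ht.symm
  have h1 : orderOf ((EG hD R k).x r t) = p := orderOf_eq_prime (by simp [x_pow, PreElts.x_zero])
    fun e => ht0 ((EG_faith hD R k).x_eq_one _ _ e)
  have h2 : Commute (Elts.tor (EG_R3 hD R k) c) ((EG hD R k).x r t) := by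
    rw [Commute, SemiconjBy, ← mul_inv_eq_iff_eq_mul, tor_x, hc]; simp
  have h3 := orderOf_injective _ (tor_injective hD R hm k) c
  rw [← h3, ← h1, ← h2.orderOf_mul_eq_mul_orderOf_of_coprime (by
    rw [h1, h3]; exact ((Nat.Prime.coprime_iff_not_dvd hp.out).2 (not_dvd_orderOf p h0)).symm)]
  refine exists_orderOf hD R hm hF ha (n := n) ?_
  rw [map_mul, ← conj_mul, fr_tor, conj_tor _ hn, h, fr_fhom hD R, e, hr, iterateFrobenius_def,
    ← Nat.sub_add_cancel hq.le, pow_succ, ht, mul_inv_cancel_left₀ hγ]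

end H61
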