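import Mathlib
import Cfsg.Agent.Base
import Cfsg.Agent.Lib.LieSpec.Tor

/-! Existence of elements of given order in twisted tori given by words. -/

set_option autoImplicit false

namespace H61
open H38 H37 Cfsg Cfsg.Lie Matrix

section
variable {ι : Type} {n : ℕ} (R : RS ι (Fin n))

/-- The matrix of a word in the simple reflections on the coroot lattice. -/
def wmat (L : List (Fin n)) : Matrix (Fin n) (Fin n) ℤ :=
  Matrix.of fun j => R.cor (L.foldr R.σ (R.sim j))

theorem prod_s_apply (L : List (Fin n)) (r : ι) : (L.map R.s).prod r = L.foldr R.σ r := by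
  induction L with
  | nil => rfl
  | cons i L ih => simp [ih, R.s_apply]

theorem cmat_word (L : List (Fin n)) : cmat R (L.map R.s).prod = wmat R L := by
  ext j i; simp only [cmat, wmat, Matrix.of_apply, prod_s_apply]

theorem word_mem (L : List (Fin n)) : (L.map R.s).prod ∈ R.W := R.list_prod_mem_WJ fun _ _ => trivial

end

variable {D : ChevalleyDatum} (hD : D ∈ Tabs) (R : RootSys D) (hm : Smith (cartanMat D) 1 0)
  {F : Type*} [Field F] [Fintype F] {p a : ℕ} (hp : p.Prime) (ha : 1 ≤ a)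
  (hF : Fintype.card F = p ^ a) (L : List (Fin D.rank))
include hD hm hp ha hF

theorem exists_cyc {m : ℕ} (hpm : ¬ p ∣ m) (v : Fin D.rank → ℤ) (i : Fin D.rank) (hi : v i = 1)
    (h : ∀ j, (m : ℤ) ∣ (p ^ a : ℕ) * (v ᵥ* wmat R.toRS L) j - v j) :
    ∃ g : D.group F, orderOf g = m := by
  have := Fact.mk hp
  have : CharP F p := charP_of_card_eq_prime_pow hF
  obtain ⟨c, rfl, h1, -⟩ := exists_twisted (AlgebraicClosure F) p hpm hi h
  exact exists_orderOf_tor hD R hm hF ha (word_mem _ L) (cmat_word _ L ▸ h1)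

theorem exists_cyc_mul {m : ℕ} (hpm : ¬ p ∣ m) (v : Fin D.rank → ℤ) (i : Fin D.rank) (hi : v i = 1)
    (h : ∀ j, (m : ℤ) ∣ (p ^ a : ℕ) * (v ᵥ* wmat R.toRS L) j - v j) (r : Fin D.nroots)
    (hr : L.foldr R.σ r = r) (hv : ∀ j, R.wt r j ≠ 0 → v j = 0) :
    ∃ g : D.group F, orderOf g = p * m := by
  have := Fact.mk hp
  have : CharP F p := charP_of_card_eq_prime_pow hF
  obtain ⟨c, rfl, h1, h2⟩ := exists_twisted (AlgebraicClosure F) p hpm hi h
  rw [mul_comm]
  refine exists_orderOf_tor_mul hD R hm hF ha (word_mem _ L) (cmat_word _ L ▸ h1)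
    (fun e => hpm (e ▸ dvd_zero p)) ((prod_s_apply _ L r).trans hr) ?_
  rw [chi_apply]
  exact Finset.prod_eq_one fun j _ => by by_cases e : R.wt r j = 0 <;> simp [e, h2, hv]

theorem exists_primes {r s : ℕ} (hr : r.Prime) (hs : s.Prime) (hrs : r ≠ s) (hrp : r ≠ p)
    (hsp : s ≠ p) (h1 : (r : ℤ) ∣ (((p ^ a : ℕ) : ℤ) • wmat R.toRS L - 1).det)
    (h2 : (s : ℤ) ∣ (((p ^ a : ℕ) : ℤ) • wmat R.toRS L - 1).det) :
    ∃ g : D.group F, orderOf g = r * s := by
  have := Fact.mk hp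
  have : CharP F p := charP_of_card_eq_prime_pow hF
  obtain ⟨c, rfl, e⟩ := exists_twisted_prime (AlgebraicClosure F) p hr hrp h1
  obtain ⟨d, rfl, e'⟩ := exists_twisted_prime (AlgebraicClosure F) p hs hsp h2
  rw [← (Commute.all c d).orderOf_mul_eq_mul_orderOf_of_coprime ((Nat.coprime_primes hr hs).2 hrs)]
  exact exists_orderOf_tor hD R hm hF ha (word_mem _ L) (by
    rw [cmat_word, mul_pow, map_mul, e, e'])

theorem exists_prime_mul {s : ℕ} (hs : s.Prime) (hsp : s ≠ p)
    (h1 : (s : ℤ) ∣ (((p ^ a : ℕ) : ℤ) • wmat R.toRS L - 1).det) (h2 : ¬ s ∣ p ^ a - 1)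
    (r : Fin D.nroots) (hr : L.foldr R.σ r = r) : ∃ g : D.group F, orderOf g = p * s := by
  have := Fact.mk hp
  have : CharP F p := charP_of_card_eq_prime_pow hF
  obtain ⟨c, rfl, e⟩ := exists_twisted_prime (AlgebraicClosure F) p hs hsp h1
  have hr' := (prod_s_apply _ L r).trans hr
  rw [mul_comm, ← cmat_word] at *
  refine exists_orderOf_tor_mul hD R hm hF ha (word_mem _ L) e hs.ne_zero hr' ?_
  have h3 := chi_W (word_mem R.toRS L) r (c ^ p ^ a)
  rw [e, hr', map_pow, ← Nat.sub_add_cancel (Nat.one_le_pow a p hp.pos), pow_succ,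
    right_eq_mul] at h3
  exact (pow_eq_one_iff_of_coprime ((Nat.Prime.coprime_iff_not_dvd hs).2 h2)).1
    ⟨by rw [← map_pow, pow_orderOf_eq_one, map_one], h3⟩

end H61
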