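import Mathlib
import Cfsg.Agent.Base
import Cfsg.Agent.Lib.Lang.Lang
import Cfsg.Agent.Lib.ChevMat.Eval

/-! Orders of explicit words in the root elements. -/

set_option autoImplicit false

namespace H61
open H38 H37 Cfsg Cfsg.Lie Matrix

variable {D : ChevalleyDatum} (hD : D ∈ Tabs) (R : RootSys D) (F : Type*) [Field F]
include hD R

theorem exists_word {w : List (ℕ × ℤ)} (hw : ∀ x ∈ w, x.1 < D.nroots) :
    ∃ g : D.group F, ((g : GL D.Idx F) : Matrix D.Idx D.Idx F) = cm D F (wordX D ℤ w) := by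
  induction w with
  | nil => exact ⟨1, by simp [wordX_nil]⟩
  | cons x w ih =>
    obtain ⟨g, hg⟩ := ih fun y hy => hw y (List.mem_cons_of_mem _ hy)
    refine ⟨(EG hD R F).x ⟨x.1, hw x List.mem_cons_self⟩ x.2 * g, ?_⟩
    rw [wordX_cons, map_mul, cm_X, ← hg, Subgroup.coe_mul, Units.val_mul, coe_EG_x,
      (tab hD).x_eq_X F (hw x List.mem_cons_self)]

omit hD R in
theorem wordX_rep (w : List (ℕ × ℤ)) (n : ℕ) :
    wordX D ℤ (List.replicate n w).flatten = wordX D ℤ w ^ n := by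
  induction n with
  | zero => simp [wordX_nil]
  | succ n ih => rw [List.replicate_succ, List.flatten_cons, wordX_append, ih, pow_succ']

theorem exists_orderOf_word (p : ℕ) [CharP F p] (w : List (ℕ × ℤ)) (n a : ℕ)
    (h : 0 < n ∧ (∀ x ∈ w, x.1 < D.nroots) ∧
      eqW D p (List.range (D.rank + D.nroots)) (List.replicate n w).flatten [] = true ∧
      ∀ l ∈ List.range (n + 1), 2 ≤ l → l ∣ n → ∃ b : D.Idx,
        ¬ (p : ℤ) ∣ sv D (appW D (List.replicate (n / l) w).flatten [(a, 1)]) b - bv D a b) :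
    ∃ g : D.group F, orderOf g = n := by
  obtain ⟨hn, hw, h1, h2⟩ := h
  obtain ⟨g, hg⟩ := exists_word hD R F hw
  have hw' : ∀ m, ∀ x ∈ (List.replicate m w).flatten, x.1 < D.nroots := fun m x hx => by
    obtain ⟨L, hL, hx⟩ := List.mem_flatten.1 hx
    exact hw x (List.eq_of_mem_replicate hL ▸ hx)
  have hp : ∀ m, g ^ m = 1 ↔ cm D F (wordX D ℤ (List.replicate m w).flatten) = 1 := fun m => by
    rw [wordX_rep, map_pow, ← hg, ← Units.val_pow_eq_pow_val, Units.val_eq_one, ← Subgroup.coe_pow,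
      OneMemClass.coe_eq_one]
  refine ⟨g, orderOf_eq_of_pow_and_pow_div_prime hn ((hp n).2 ?_) fun l hl hln e => ?_⟩
  · rw [(tab hD).wordX_eq_of_eqW_all F (by simp) (hw' n) (by simp) h1, wordX_nil, map_one]
  · obtain ⟨b, hb⟩ := h2 l (List.mem_range.2 (Nat.lt_succ_of_le (Nat.le_of_dvd hn hln))) hl.two_le hln
    refine hb ((CharP.intCast_eq_zero_iff F p _).1 ?_)
    rw [(tab hD).sv_appW (hw' _), sv_cons, sv_nil, add_zero, one_smul, Int.cast_sub, sub_eq_zero]
    have := RingHom.map_mulVec (Int.castRingHom F) (wordX D ℤ (List.replicate (n / l) w).flatten)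
      (bv D a) b
    rw [← RingHom.mapMatrix_apply, (hp _).1 e, one_mulVec] at this
    exact this

end H61
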