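import Mathlib
import Cfsg.Agent.Base
import Cfsg.Agent.Lib.LieSpec.Exist
import Cfsg.Agent.Lib.LieSpec.Word

/-! The element orders of the groups `G₂(q)`. -/

set_option autoImplicit false

namespace H61
open H38 H37 Cfsg Cfsg.Lie Matrix

/-- The root system of type `G₂`. -/
def RG : RS (Fin 12) (Fin 2) := rsG2.toRS

theorem g2T : chevG2 ∈ Tabs := List.mem_cons_self

/-- The determinant of two roots. -/
def dt (r s : Fin 12) : ℤ := RG.rt r 0 * RG.rt s 1 - RG.rt s 0 * RG.rt r 1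

theorem RG_pair : RG.pair (RG.sim 0) (RG.sim 1) = -3 := by decide +kernel

theorem RG_A : ∀ a b, RG.pair a b = -3 → (a = RG.sim 0 ∧ b = RG.sim 1) ∨
    (a = RG.neg (RG.sim 0) ∧ b = RG.neg (RG.sim 1)) ∨ (dt a b = -1 ∧ RG.rt a 0 + RG.rt b 1 = 0) ∨
    (dt a b = 1 ∧ RG.rt a 0 + RG.rt b 1 = -1) ∨ (dt a b = 1 ∧ RG.rt a 0 + RG.rt b 1 = 1) := by
  decide +kernel

theorem RG_B : ∀ a b, RG.pair a b = -3 → ∀ r s, RG.rt s = RG.rt r 0 • RG.rt a + RG.rt r 1 • RG.rt b →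
    dt r s ∣ 3 ∨ ∃ ε ∈ [(1 : ℤ), -1], (∃ i ∈ [(-3 : ℤ), -2, -1, 0, 1, 2, 3],
      RG.rt a = ε • RG.rt (RG.sim 0) + i • RG.rt r) ∧ ∃ i ∈ [(-3 : ℤ), -2, -1, 0, 1, 2, 3],
      RG.rt b = ε • RG.rt (RG.sim 1) + i • RG.rt r := by
  decide +kernel

theorem RG_C : ∀ r, 0 < RG.ht r → ∀ s, 0 < RG.ht s → ∀ i ∈ [(1 : ℤ), 2, 3, 4, 5],
    ∀ j ∈ [(1 : ℤ), 2, 3, 4, 5], ∀ k, RG.rt k = i • RG.rt r + j • RG.rt s →
      dt r s ∣ 1 ∨ (dt r s ∣ 3 ∧ r ≠ 11 ∧ s ≠ 11 ∧ k = 11) := by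
  simp only [RS.ht_eq]
  decide +kernel

theorem RG_ht : ∀ r, RG.ht r ≤ 5 := by
  simp only [RS.ht_eq]
  decide +kernel

section
variable {Γ : Type*} [CommGroup Γ] {c : Fin 2 → Γ} {q : ℕ} {w : Equiv.Perm (Fin 12)}

theorem sim_zpow_dt {r s : Fin 12} (hr : chi RG r c = 1) (hs : chi RG s c = 1) :
    (fun j => chi RG (RG.sim j) c) ^ dt r s = 1 := by
  have := pow_det_eq_one (M := Matrix.of fun i j => RG.rt (![r, s] j) i)
    (c := fun j => chi RG (RG.sim j) c) (funext fun j => by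
      fin_cases j
      · exact (chi_eq_prod r c).symm.trans hr
      · exact (chi_eq_prod s c).symm.trans hs)
  rwa [det_fin_two] at this

theorem dvd_sub_of_eps (hw : w ∈ RG.W) (h : mact (cmat RG w) c = c ^ q) {ε : ℤ}
    (hε : ε ∈ [(1 : ℤ), -1]) (e : ∀ j, chi RG (w (RG.sim j)) c = chi RG (RG.sim j) c ^ ε) :
    (orderOf (fun j => chi RG (RG.sim j) c) : ℤ) ∣ q - 1 ∨
      (orderOf (fun j => chi RG (RG.sim j) c) : ℤ) ∣ q + 1 := by
  have h1 : (orderOf (fun j => chi RG (RG.sim j) c) : ℤ) ∣ ε * q - 1 :=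
    orderOf_dvd_iff_zpow_eq_one.2 (funext fun j => by
      rw [Pi.pow_apply, _root_.zpow_sub_one, _root_.zpow_mul, ← e, zpow_natCast, chi_pow_W hw h]; simp)
  simp only [List.mem_cons, List.not_mem_nil, or_false] at hε
  rcases hε with rfl | rfl
  · exact .inl (by simpa using h1)
  · exact .inr (by rw [← dvd_neg, show -((q : ℤ) + 1) = -1 * q - 1 by ring]; exact h1)

theorem dvd_A (hw : w ∈ RG.W) (h : mact (cmat RG w) c = c ^ q) :
    (orderOf (fun j => chi RG (RG.sim j) c) : ℤ) ∣ q ^ 2 - 1 ∨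
      (orderOf (fun j => chi RG (RG.sim j) c) : ℤ) ∣ q ^ 2 + q + 1 ∨
      (orderOf (fun j => chi RG (RG.sim j) c) : ℤ) ∣ q ^ 2 - q + 1 := by
  have h1 := pow_det_eq_one (M := (q : ℤ) • rmat RG w - 1) (c := fun j => chi RG (RG.sim j) c) (by
    rw [mact_sub, mact_zsmul, mact_one, zpow_natCast, mact_rmat hw h, div_self'])
  have h2 : ((q : ℤ) • rmat RG w - 1).det = q ^ 2 * dt (w (RG.sim 0)) (w (RG.sim 1)) -
      q * (RG.rt (w (RG.sim 0)) 0 + RG.rt (w (RG.sim 1)) 1) + 1 := by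
    simp [det_fin_two, rmat, dt, -zsmul_eq_mul]; ring
  rw [← orderOf_dvd_iff_zpow_eq_one, h2] at h1
  have h3 : ∀ {x : ℤ}, x ∣ q - 1 ∨ x ∣ q + 1 → x ∣ q ^ 2 - 1 := fun h =>
    h.elim (·.trans ⟨q + 1, by ring⟩) (·.trans ⟨q - 1, by ring⟩)
  rcases RG_A _ _ ((RG.pair_W hw _ _).trans RG_pair) with e | e | e | e | e
  · exact .inl (h3 (dvd_sub_of_eps hw h (ε := 1) (by simp) fun j => by
      fin_cases j <;> simp [e.1, e.2]))
  · exact .inl (h3 (dvd_sub_of_eps hw h (ε := -1) (by simp) fun j => by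
      fin_cases j <;> simp [e.1, e.2, chi_neg]))
  · rw [e.1, e.2] at h1; exact .inl (dvd_neg.1 (by
      rwa [show -((q : ℤ) ^ 2 - 1) = q ^ 2 * -1 - q * 0 + 1 by ring]))
  · rw [e.1, e.2] at h1; exact .inr (.inl (by convert h1 using 1; ring))
  · rw [e.1, e.2] at h1; exact .inr (.inr (by convert h1 using 1; ring))

theorem dvd_B (hw : w ∈ RG.W) (h : mact (cmat RG w) c = c ^ q) (hq : q.Coprime (orderOf c))
    {r : Fin 12} (hr : chi RG r c = 1) : (orderOf (fun j => chi RG (RG.sim j) c) : ℤ) ∣ 3 ∨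
      (orderOf (fun j => chi RG (RG.sim j) c) : ℤ) ∣ q - 1 ∨
      (orderOf (fun j => chi RG (RG.sim j) c) : ℤ) ∣ q + 1 := by
  have hs : chi RG (w r) c = 1 := (pow_eq_one_iff_of_coprime hq).1
    ⟨by rw [chi_pow_W hw h, hr], by rw [← map_pow, pow_orderOf_eq_one, map_one]⟩
  rcases RG_B _ _ ((RG.pair_W hw _ _).trans RG_pair) r (w r) (by
    rw [RG.rt_W hw r, RG.lin_apply, Fin.sum_univ_two]) with e | ⟨ε, hε, ⟨i, -, hi⟩, j, -, hj⟩
  · exact .inl ((orderOf_dvd_iff_zpow_eq_one.2 (sim_zpow_dt hr hs)).trans e)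
  · refine .inr (dvd_sub_of_eps hw h hε fun k => ?_)
    fin_cases k
    · simpa [hr] using chi_comb hi c
    · simpa [hr] using chi_comb hj c

theorem cone_RG {r s k : Fin 12} (hr : chi RG r c = 1 ∧ RG.Pos r) (hs : chi RG s c = 1 ∧ RG.Pos s)
    (hk : k ∈ RG.Cone r s) : (chi RG k c = 1 ∧ RG.Pos k) ∧ RG.ht r + RG.ht s ≤ RG.ht k ∧
      (orderOf (fun j => chi RG (RG.sim j) c) ≠ 1 →
        (orderOf (fun j => chi RG (RG.sim j) c) : ℤ) ∣ 3 ∧ r ≠ 11 ∧ s ≠ 11 ∧ k = 11) := by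
  have h0 := RG.pos_of_cone hr.2 hs.2 hk
  obtain ⟨i, j, hi, hj, e⟩ := hk
  have h1 : RG.ht k = i * RG.ht r + j * RG.ht s := by simp [RS.ht, e, -zsmul_eq_mul]
  have h2 := (RG.ht_pos_iff r).2 hr.2
  have h3 := (RG.ht_pos_iff s).2 hs.2
  have h4 := RG_ht k
  have h5 := orderOf_dvd_iff_zpow_eq_one.2 (sim_zpow_dt hr.1 hs.1)
  refine ⟨⟨by simp [chi_comb e, hr.1, hs.1], h0⟩, by nlinarith, fun h => ?_⟩
  have : i ≤ 5 := by nlinarith
  have : j ≤ 5 := by nlinarith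
  refine (RG_C r h2 s h3 i (by simp; omega) j (by simp; omega) k e).elim (fun e => absurd ?_ h)
    fun e => ⟨h5.trans e.1, e.2⟩
  exact Nat.dvd_one.1 (Int.natCast_dvd_natCast.1 (h5.trans e))

variable {K G : Type*} [Field K] [Group G] {E : Elts RG K G} {p : ℕ} [hp : Fact p.Prime] [CharP K p]
  {u : G} (hu : u ∈ E.XS {r | chi RG r c = 1 ∧ RG.Pos r})
include hu

theorem pow_ht {e : ℕ} (he : 5 < p ^ e) : u ^ p ^ e = 1 :=
  pow_eq_one_of_height (f := fun r => (RG.ht r).toNat) (fun _ h => h.2)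
    (fun r h => by have := (RG.ht_pos_iff r).2 h.2; omega) (fun r hr s hs k hk => by
      have := cone_RG hr hs hk
      have := (RG.ht_pos_iff r).2 hr.2
      have := (RG.ht_pos_iff s).2 hs.2
      exact ⟨by tauto, by omega⟩) (fun r _ => by have := RG_ht r; omega) hu

theorem pow_two_lt (h : orderOf (fun j => chi RG (RG.sim j) c) ≠ 1) {e : ℕ} (he : 2 < p ^ e) :
    u ^ p ^ e = 1 :=
  pow_eq_one_of_height (f := fun r => if r = 11 then 2 else 1) (fun _ h => h.2)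
    (fun r _ => by split_ifs <;> simp) (fun r hr s hs k hk => by
      obtain ⟨h1, -, h2⟩ := cone_RG hr hs hk
      exact ⟨h1, by simp [h2 h]⟩) (fun r _ => by split_ifs <;> omega) hu

theorem pow_of_not_dvd (h : ¬ (orderOf (fun j => chi RG (RG.sim j) c) : ℤ) ∣ 3) : u ^ p ^ 1 = 1 :=
  pow_eq_one_of_height (f := fun _ => 1) (fun _ h => h.2) (fun _ _ => le_rfl)
    (fun r hr s hs k hk => absurd ((cone_RG hr hs hk).2.2 fun e => h (by simp [e])).1 h)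
    (fun _ _ => by simpa using hp.out.one_lt) hu

end

variable {F : Type*} [Field F] [Fintype F] {p a : ℕ} (hp : p.Prime) (ha : 1 ≤ a)
  (hF : Fintype.card F = p ^ a)
include hp ha hF

theorem g2_orderOf_dvd (g : chevG2.group F) :
    orderOf g ∣ p * (p ^ a + 1) ∨ orderOf g ∣ p * (p ^ a - 1) ∨ orderOf g ∣ p ^ (2 * a) - 1 ∨
      orderOf g ∣ p ^ (2 * a) + p ^ a + 1 ∨ orderOf g ∣ p ^ (2 * a) - p ^ a + 1 ∨
      (p = 2 ∧ (orderOf g ∣ 8 ∨ orderOf g ∣ 12)) ∨ ((p = 3 ∨ p = 5) ∧ orderOf g ∣ p ^ 2) := by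
  have := Fact.mk hp
  have : CharP F p := charP_of_card_eq_prime_pow hF
  obtain ⟨c, w, hw, u, hu, e, h1, h2, h3, h4⟩ :=
    exists_data g2T rsG2 smithG2 (AlgebraicClosure F) hF g
  have ho : orderOf (fun j => chi RG (RG.sim j) c) = orderOf c := orderOf_chi rsG2 smithG2 c
  have hq : 1 ≤ p ^ a := Nat.one_le_pow _ _ hp.pos
  have hq2 : p ^ a ≤ p ^ (2 * a) := Nat.pow_le_pow_right hp.pos (by omega)
  have hc := (Nat.Prime.coprime_iff_not_dvd hp).2 h4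
  simp only [← Int.natCast_dvd_natCast, h3]
  push_cast [hq, hq2, hq.trans hq2]
  rw [mul_comm 2, pow_mul]
  by_cases hS : ∃ r, chi RG r c = 1 ∧ RG.Pos r
  swap
  · have : u = 1 := by
      rw [← Subgroup.mem_bot, ← (EG g2T rsG2 _).XS_empty]
      exact PreElts.mem_XS_mono _ hu fun r hr => hS ⟨r, hr⟩
    have h5 : (p : ℤ) ^ e = 1 := by exact_mod_cast (by rw [← h2, this, orderOf_one] : p ^ e = 1)
    have := dvd_A (c := c) hw h1
    rw [ho] at this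
    push_cast at this
    rw [h5, mul_one]
    exact .inr (.inr (this.imp_right (Or.imp_right .inl)))
  obtain ⟨r, hr, -⟩ := hS
  have key : ∀ n, u ^ p ^ n = 1 → (p : ℤ) ^ e ∣ p ^ n := fun n hn => by
    exact_mod_cast h2 ▸ orderOf_dvd_of_pow_eq_one hn
  have hB := dvd_B (c := c) hw h1 (hc.pow_left a) hr
  have h7 : u ^ p ^ 1 = 1 → (orderOf c : ℤ) * p ^ e ∣ p * (p ^ a + 1) ∨
      (orderOf c : ℤ) * p ^ e ∣ p * (p ^ a - 1) := fun h => by
    have h8 := key 1 h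
    rw [pow_one] at h8
    have : (orderOf c : ℤ) ∣ p ^ a + 1 ∨ (orderOf c : ℤ) ∣ p ^ a - 1 := by
      rw [ho] at hB
      push_cast at hB
      rcases hB with h | h | h
      · rcases (Nat.dvd_prime Nat.prime_three).1 (Int.natCast_dvd_natCast.1 h) with h | h
        · simp [h]
        · rw [h] at hc ⊢
          have := (Nat.Prime.coprime_iff_not_dvd Nat.prime_three).1 (hc.pow_left a).symm
          rw [← Int.natCast_dvd_natCast] at this
          push_cast at this ⊢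
          omega
      · exact .inr h
      · exact .inl h
    rw [mul_comm]
    exact this.imp (mul_dvd_mul h8) (mul_dvd_mul h8)
  by_cases g1 : orderOf c = 1
  · rw [g1, Nat.cast_one, one_mul] at h7 ⊢
    by_cases g2 : p = 2
    · subst g2; have := key 3 (pow_ht (c := c) hu (by simp)); simp_all
    by_cases h3 : p = 3 ∨ p = 5
    · have := key 2 (pow_ht (c := c) hu (by rcases h3 with rfl | rfl <;> simp))
      simp only [h3, this, and_self, or_true]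
    · have := h7 (pow_ht (c := c) hu (by
        have := hp.two_le
        have : p ≠ 4 := by rintro rfl; norm_num at hp
        rw [pow_one]; omega))
      exact this.imp_right .inl
  by_cases g3 : (orderOf c : ℤ) ∣ 3
  · by_cases g2 : p = 2
    · subst g2
      have := mul_dvd_mul g3 (key 2 (pow_two_lt (c := c) hu (ho ▸ g1) (by simp)))
      simp_all
    · have := h7 (pow_two_lt (c := c) hu (ho ▸ g1) (by have := hp.two_le; rw [pow_one]; omega))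
      exact this.imp_right .inl
  · have := h7 (pow_of_not_dvd (c := c) hu (ho ▸ g3))
    exact this.imp_right .inl

theorem g2_cyc (L : List (Fin 2)) (M : Matrix (Fin 2) (Fin 2) ℤ) (hM : wmat RG L = M) {m : ℕ}
    (hm : ¬ p ∣ m) (x : ℤ) (h0 : (m : ℤ) ∣ p ^ a * (M 0 0 + x * M 1 0) - 1)
    (h1 : (m : ℤ) ∣ p ^ a * (M 0 1 + x * M 1 1) - x) :
    m ∈ Set.range (orderOf : chevG2.group F → ℕ) ∧ (L.foldr RG.σ 11 = 11 → x = 0 →
      p * m ∈ Set.range (orderOf : chevG2.group F → ℕ)) := by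
  have h : ∀ j : Fin 2, (m : ℤ) ∣ (p ^ a : ℕ) * (![1, x] ᵥ* wmat RG L) j - ![1, x] j := by
    rw [hM]; simpa [vecMul, dotProduct] using ⟨h0, h1⟩
  refine ⟨exists_cyc g2T rsG2 smithG2 hp ha hF L hm ![1, x] (0 : Fin 2) rfl h, fun e hx =>
    exists_cyc_mul g2T rsG2 smithG2 hp ha hF L hm ![1, x] (0 : Fin 2) rfl h (11 : Fin 12) e ?_⟩
  change ∀ j : Fin 2, RG.wt 11 j ≠ 0 → ![1, x] j = 0
  simp [hx, show RG.wt 11 0 = 0 by decide +kernel]

theorem g2_mem : p * (p ^ a + 1) ∈ Set.range (orderOf : chevG2.group F → ℕ) ∧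
    p * (p ^ a - 1) ∈ Set.range (orderOf : chevG2.group F → ℕ) ∧
    p ^ (2 * a) - 1 ∈ Set.range (orderOf : chevG2.group F → ℕ) ∧
    p ^ (2 * a) + p ^ a + 1 ∈ Set.range (orderOf : chevG2.group F → ℕ) ∧
    p ^ (2 * a) - p ^ a + 1 ∈ Set.range (orderOf : chevG2.group F → ℕ) := by
  have hq : 1 ≤ p ^ a := Nat.one_le_pow _ _ hp.pos
  have hq2 : p ^ a ≤ p ^ (2 * a) := Nat.pow_le_pow_right hp.pos (by omega)
  have h1 : p ∣ p ^ a := dvd_pow_self p (by omega)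
  have h2 : p ∣ p ^ (2 * a) := dvd_pow_self p (by omega)
  have h3 : ∀ {n}, p ∣ n → ¬ p ∣ n + 1 := fun h e =>
    hp.one_lt.ne' (Nat.dvd_one.1 ((Nat.dvd_add_right h).1 e))
  have h4 : ∀ {n}, 1 ≤ n → p ∣ n → ¬ p ∣ n - 1 := fun h h' e => h3 e (by rwa [Nat.sub_add_cancel h])
  refine ⟨(g2_cyc hp ha hF [0] !![-1, 0; 1, 1] (by decide +kernel) (h3 h1) 0 ⟨-1, ?_⟩ (by simp)).2
      (by decide +kernel) rfl,
    (g2_cyc hp ha hF [] 1 (by decide +kernel) (h4 hq h1) 0 ⟨1, ?_⟩ (by simp)).2 rfl rfl,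
    (g2_cyc hp ha hF [0] !![-1, 0; 1, 1] (by decide +kernel) (h4 (hq.trans hq2) h2) (p ^ a + 1)
      ⟨1, ?_⟩ ⟨1, ?_⟩).1,
    (g2_cyc hp ha hF [0, 1, 0, 1] !![1, 3; -1, -2] (by decide +kernel) (h3 (dvd_add h2 h1))
      (p ^ a + 2) ⟨-1, ?_⟩ ⟨-2, ?_⟩).1,
    (g2_cyc hp ha hF [0, 1] !![2, 3; -1, -1] (by decide +kernel) (h3 (Nat.dvd_sub h2 h1))
      (p ^ a + 1) ⟨-1, ?_⟩ ⟨-1, ?_⟩).1⟩ <;>
  simp [hq, hq2, hq.trans hq2] <;> ring

omit ha in
theorem g2_word (w : List (ℕ × ℤ)) (n : ℕ)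
    (h : 0 < n ∧ (∀ x ∈ w, x.1 < chevG2.nroots) ∧
      eqW chevG2 p (List.range (chevG2.rank + chevG2.nroots)) (List.replicate n w).flatten [] = true ∧
      ∀ l ∈ List.range (n + 1), 2 ≤ l → l ∣ n → ∃ b : chevG2.Idx, ¬ (p : ℤ) ∣
        sv chevG2 (appW chevG2 (List.replicate (n / l) w).flatten [(13, 1)]) b - bv chevG2 13 b) :
    n ∈ Set.range (orderOf : chevG2.group F → ℕ) :=
  have := Fact.mk hp
  have : CharP F p := charP_of_card_eq_prime_pow hF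
  exists_orderOf_word g2T rsG2 F p w n 13 h

end H61
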