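import Mathlib
import Cfsg.Agent.Base
import Cfsg.Agent.Lib.LieSpec.G2
import Cfsg.Agent.Lib.Stein3.Mult

/-! The six-dimensional module of `G₂(q)` in characteristic two. -/

set_option autoImplicit false

namespace H61
open H38 H37 Cfsg Cfsg.Lie

variable {F : Type*} [Field F]

/-- The underlying space. -/
abbrev V6 (F : Type*) := F × F × F × F × F × F

/-- The action of the root elements. -/
def g6 (t : F) : ℕ → V6 F → V6 F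
  | 0, (a, b, c, d, e, f) => (a + t * e, b + t * f, c, d, e, f)
  | 1, (a, b, c, d, e, f) => (a + t * d, b, c + t * f, d, e, f)
  | 2, (a, b, c, d, e, f) => (a + t ^ 2 * f, b + t * d, c + t * e, d, e, f)
  | 3, (a, b, c, d, e, f) => (a + t * c, b + t ^ 2 * e, c, d + t * f, e, f)
  | 4, (a, b, c, d, e, f) => (a + t * b, b, c + t ^ 2 * d, d, e + t * f, f)
  | 5, (a, b, c, d, e, f) => (a, b + t * c, c, d + t * e, e, f)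
  | 6, (a, b, c, d, e, f) => (a, b, c + t * b, d, e + t * d, f)
  | 7, (a, b, c, d, e, f) => (a, b + t * a, c, d + t ^ 2 * c, e, f + t * e)
  | 8, (a, b, c, d, e, f) => (a, b, c + t * a, d, e + t ^ 2 * b, f + t * d)
  | 9, (a, b, c, d, e, f) => (a, b, c, d + t * b, e + t * c, f + t ^ 2 * a)
  | 10, (a, b, c, d, e, f) => (a, b, c, d + t * a, e, f + t * c)
  | _, (a, b, c, d, e, f) => (a, b, c, d, e + t * a, f + t * b)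

/-- The commutator terms of type `G₂`. -/
def g2C : ℕ → ℕ → List (ℕ × ℤ × ℕ × ℕ)
  | 0, 6 => [(1, 1, 1, 1)]
  | 0, 8 => [(2, 1, 1, 1), (4, 1, 1, 2), (6, -1, 1, 3), (1, -2, 2, 3)]
  | 0, 9 => [(3, -1, 1, 1), (7, -1, 1, 2), (10, -1, 1, 3), (5, 2, 2, 3)]
  | 0, 10 => [(5, -1, 1, 1)]
  | 1, 5 => [(0, 1, 1, 1)]
  | 1, 7 => [(2, 1, 1, 1), (3, -1, 1, 2), (5, 1, 1, 3), (0, 2, 2, 3)]
  | 1, 9 => [(4, -1, 1, 1), (8, 1, 1, 2), (11, 1, 1, 3), (6, -2, 2, 3)]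
  | 1, 11 => [(6, -1, 1, 1)]
  | 2, 3 => [(0, 3, 1, 1)]
  | 2, 4 => [(1, 3, 1, 1)]
  | 2, 7 => [(3, -2, 1, 1), (0, -3, 2, 1), (5, 3, 1, 2)]
  | 2, 8 => [(4, 2, 1, 1), (1, 3, 2, 1), (6, -3, 1, 2)]
  | 2, 10 => [(7, -1, 1, 1), (3, 1, 2, 1), (0, 1, 3, 1), (5, 1, 3, 2)]
  | 2, 11 => [(8, -1, 1, 1), (4, -1, 2, 1), (1, -1, 3, 1), (6, -1, 3, 2)]
  | 3, 2 => [(0, -3, 1, 1)]
  | 3, 4 => [(2, -2, 1, 1), (0, 3, 2, 1), (1, -3, 1, 2)]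
  | 3, 6 => [(4, 1, 1, 1), (2, -1, 2, 1), (0, 1, 3, 1), (1, -1, 3, 2)]
  | 3, 7 => [(5, -3, 1, 1)]
  | 3, 9 => [(7, 2, 1, 1), (5, -3, 2, 1), (10, 3, 1, 2)]
  | 3, 11 => [(9, 1, 1, 1), (7, 1, 2, 1), (5, -1, 3, 1), (10, 1, 3, 2)]
  | 4, 2 => [(1, -3, 1, 1)]
  | 4, 3 => [(2, 2, 1, 1), (1, -3, 2, 1), (0, 3, 1, 2)]
  | 4, 5 => [(3, 1, 1, 1), (2, 1, 2, 1), (1, -1, 3, 1), (0, 1, 3, 2)]
  | 4, 8 => [(6, -3, 1, 1)]
  | 4, 9 => [(8, -2, 1, 1), (6, 3, 2, 1), (11, -3, 1, 2)]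
  | 4, 10 => [(9, 1, 1, 1), (8, -1, 2, 1), (6, 1, 3, 1), (11, -1, 3, 2)]
  | 5, 1 => [(0, -1, 1, 1)]
  | 5, 4 => [(3, -1, 1, 1), (2, 1, 1, 2), (1, 1, 1, 3), (0, -2, 2, 3)]
  | 5, 8 => [(7, 1, 1, 1), (9, -1, 1, 2), (11, 1, 1, 3), (10, 2, 2, 3)]
  | 5, 11 => [(10, 1, 1, 1)]
  | 6, 0 => [(1, -1, 1, 1)]
  | 6, 3 => [(4, -1, 1, 1), (2, -1, 1, 2), (0, -1, 1, 3), (1, 2, 2, 3)]
  | 6, 7 => [(8, 1, 1, 1), (9, 1, 1, 2), (10, -1, 1, 3), (11, -2, 2, 3)]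
  | 6, 10 => [(11, 1, 1, 1)]
  | 7, 1 => [(2, -1, 1, 1), (3, -1, 2, 1), (5, -1, 3, 1), (0, -1, 3, 2)]
  | 7, 2 => [(3, 2, 1, 1), (5, 3, 2, 1), (0, -3, 1, 2)]
  | 7, 3 => [(5, 3, 1, 1)]
  | 7, 6 => [(8, -1, 1, 1), (9, 1, 2, 1), (10, 1, 3, 1), (11, 1, 3, 2)]
  | 7, 8 => [(9, -2, 1, 1), (10, -3, 2, 1), (11, 3, 1, 2)]
  | 7, 9 => [(10, 3, 1, 1)]
  | 8, 0 => [(2, -1, 1, 1), (4, 1, 2, 1), (6, 1, 3, 1), (1, 1, 3, 2)]
  | 8, 2 => [(4, -2, 1, 1), (6, -3, 2, 1), (1, 3, 1, 2)]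
  | 8, 4 => [(6, 3, 1, 1)]
  | 8, 5 => [(7, -1, 1, 1), (9, -1, 2, 1), (11, -1, 3, 1), (10, -1, 3, 2)]
  | 8, 7 => [(9, 2, 1, 1), (11, 3, 2, 1), (10, -3, 1, 2)]
  | 8, 9 => [(11, 3, 1, 1)]
  | 9, 0 => [(3, 1, 1, 1), (7, -1, 2, 1), (10, 1, 3, 1), (5, -1, 3, 2)]
  | 9, 1 => [(4, 1, 1, 1), (8, 1, 2, 1), (11, -1, 3, 1), (6, 1, 3, 2)]
  | 9, 3 => [(7, -2, 1, 1), (10, 3, 2, 1), (5, -3, 1, 2)]
  | 9, 4 => [(8, 2, 1, 1), (11, -3, 2, 1), (6, 3, 1, 2)]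
  | 9, 7 => [(10, -3, 1, 1)]
  | 9, 8 => [(11, -3, 1, 1)]
  | 10, 0 => [(5, 1, 1, 1)]
  | 10, 2 => [(7, 1, 1, 1), (3, 1, 1, 2), (0, -1, 1, 3), (5, -2, 2, 3)]
  | 10, 4 => [(9, -1, 1, 1), (8, -1, 1, 2), (6, -1, 1, 3), (11, 2, 2, 3)]
  | 10, 6 => [(11, -1, 1, 1)]
  | 11, 1 => [(6, 1, 1, 1)]
  | 11, 2 => [(8, 1, 1, 1), (4, -1, 1, 2), (1, 1, 1, 3), (6, 2, 2, 3)]
  | 11, 3 => [(9, -1, 1, 1), (7, 1, 1, 2), (5, 1, 1, 3), (10, -2, 2, 3)]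
  | 11, 5 => [(10, -1, 1, 1)]
  | _, _ => []

theorem g2C_eq : ∀ r < 12, ∀ s < 12, decide (chevG2.commTerms r s = g2C r s) = true := by
  decide +kernel

theorem g2_neg : ∀ r < 12, chevG2.neg r = 11 - r := by decide +kernel

variable [CharP F 2]

theorem g6_g6 (r : ℕ) (t u : F) (v : V6 F) : g6 t r (g6 u r v) = g6 (t + u) r v := by
  obtain ⟨a, b, c, d, e, f⟩ := v
  unfold g6
  split <;> simp_all <;> grind

/-- The root elements as linear automorphisms. -/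
def y6 (r : ℕ) (t : F) : V6 F ≃ₗ[F] V6 F where
  toFun := g6 t r
  invFun := g6 (-t) r
  map_add' := by
    rintro ⟨a, b, c, d, e, f⟩ ⟨a', b', c', d', e', f'⟩
    unfold g6
    split <;> simp_all <;> grind
  map_smul' := by
    rintro x ⟨a, b, c, d, e, f⟩
    unfold g6
    split <;> simp_all <;> grind
  left_inv v := by rw [g6_g6]; unfold g6; split <;> simp
  right_inv v := by rw [g6_g6]; unfold g6; split <;> simp

theorem y6_apply (r : ℕ) (t : F) (v : V6 F) : y6 r t v = g6 t r v := rfl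

variable (F) in
set_option maxHeartbeats 2000000 in
/-- The Steinberg relations. -/
def g2St : StRel chevG2 F (V6 F ≃ₗ[F] V6 F) where
  x := y6
  x_add r _ t u := LinearEquiv.ext (g6_g6 r t u)
  comm r hr s hs h1 h2 t u := by
    change r < 12 at hr
    change s < 12 at hs
    rw [ChevalleyDatum.commWord, of_decide_eq_true (g2C_eq r hr s hs)]
    rw [g2_neg r hr] at h2
    refine LinearEquiv.ext fun ⟨a, b, c, d, e, f⟩ => ?_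
    interval_cases r <;> interval_cases s <;> first
      | exact absurd rfl h1
      | exact absurd rfl h2
      | (simp only [g2C, List.map_cons, List.map_nil, List.prod_cons, List.prod_nil, mul_one,
          LinearEquiv.mul_apply, y6_apply, g6, Prod.mk.injEq, Int.cast_one, Int.cast_neg,
          Int.cast_ofNat, true_and, and_true]
         all_goals grind)

end H61
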